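import Cfsg.Agent.S0646
import Cfsg.Agent.Lib.PLemmas.MaximalClass
import Cfsg.Agent.Lib.TwoGroup.Recognition

/-!
A nonabelian `2`-group whose commutator subgroup has index four is dihedral, semidihedral or
generalised quaternion.
-/

set_option autoImplicit false

namespace Cfsg.Agent.Lib.TwoClass

/-- Dihedral, semidihedral or generalised quaternion, from the index of the commutator subgroup. -/
theorem classify {S : Type*} [Group S] [Finite S] {n : ℕ} (hn : 3 ≤ n) (hS : Nat.card S = 2 ^ n)
    (hd : (commutator S).index = 4) :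
    (∃ k : ℕ, Nonempty (S ≃* DihedralGroup (2 ^ (k + 2)))) ∨
      (∃ k : ℕ, Nat.card S = 2 ^ (k + 4) ∧ ∃ a b : S, orderOf a = 2 ^ (k + 3) ∧ orderOf b = 2 ∧
        b * a * b⁻¹ = a ^ (2 ^ (k + 2) - 1)) ∨
      (∃ k : ℕ, Nonempty (S ≃* QuaternionGroup (2 ^ (k + 1)))) := by
  haveI := Fact.mk Nat.prime_two
  obtain ⟨-, C, hCc, hCi, -⟩ := Cfsg.Agent.Lib.PLemmas.two_group_index_four hn hS hd
  have hna : ∃ x y : S, x * y ≠ y * x := by
    by_contra h
    push Not at h
    have hbot : commutator S = ⊥ := by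
      rw [commutator_eq_bot_iff]; exact ⟨⟨h⟩⟩
    rw [hbot, Subgroup.index_bot, hS] at hd
    have : 2 ^ 3 ≤ 2 ^ n := Nat.pow_le_pow_right (by norm_num) hn
    omega
  obtain ⟨a, b, ha, hb, hcases⟩ := Cfsg.Agent.S0646.result n hn hS C hCc hCi hna
  have hidx : (Subgroup.zpowers a).index = 2 := by
    have h := (Subgroup.zpowers a).card_mul_index
    rw [Nat.card_zpowers, ha, hS, ← pow_sub_one_mul (show n ≠ 0 by omega) 2] at h
    exact Nat.eq_of_mul_eq_mul_left (by positivity) h
  have hH : ∀ g ∈ (⊤ : Subgroup S), g ∈ Subgroup.zpowers a ∨ b * g ∈ Subgroup.zpowers a := by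
    intro g _
    by_cases hg : g ∈ Subgroup.zpowers a
    · exact Or.inl hg
    · exact Or.inr ((Subgroup.mul_mem_iff_of_index_two hidx).mpr (iff_of_false hb hg))
  rcases hcases with ⟨hb2, hba⟩ | ⟨hb2, hba⟩ | ⟨hn4, hb2, hba⟩ | ⟨hn4, hb2, hba⟩
  · refine Or.inl ⟨n - 3, ?_⟩
    have ha' : orderOf a = 2 ^ (n - 3 + 2) := by rw [ha]; congr 1; omega
    obtain ⟨e⟩ := Cfsg.Agent.Lib.TwoGroup.nonempty_mulEquiv_dihedral ha'
      (by rw [← pow_two]; exact hb2) hba hb ⊤ trivial trivial hH
    exact ⟨Subgroup.topEquiv.symm.trans e⟩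
  · refine Or.inr (Or.inr ⟨n - 3, ?_⟩)
    have ha' : orderOf a = 2 * 2 ^ (n - 3 + 1) := by rw [ha, ← pow_succ']; congr 1; omega
    obtain ⟨e⟩ := Cfsg.Agent.Lib.TwoGroup.nonempty_mulEquiv_quaternion ha'
      (by rw [← pow_two, hb2]; congr 2; omega) hba hb ⊤ trivial trivial hH
    exact ⟨Subgroup.topEquiv.symm.trans e⟩
  · -- the modular group has a small commutator subgroup
    exfalso
    set z := a ^ 2 ^ (n - 2) with hz
    have hz1 : orderOf z ∣ 2 := orderOf_dvd_of_pow_eq_one (by
      rw [hz, ← pow_mul, ← pow_succ, show n - 2 + 1 = n - 1 by omega, ← ha, pow_orderOf_eq_one])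
    have hzb : b * z * b⁻¹ = z := by
      rw [hz, ← conj_pow, hba, ← pow_mul, mul_comm (1 + 2 ^ (n - 2)), pow_mul]
      rw [← hz, pow_add, pow_one, show 2 ^ (n - 2) = 2 * 2 ^ (n - 3) by
        rw [← pow_succ']; congr 1; omega, pow_mul, orderOf_dvd_iff_pow_eq_one.mp hz1, one_pow,
        mul_one]
    have htop : Subgroup.closure ({a, b} : Set S) = ⊤ := by
      rw [eq_top_iff]
      intro g _
      have hle : Subgroup.zpowers a ≤ Subgroup.closure ({a, b} : Set S) :=
        Subgroup.zpowers_le.mpr (Subgroup.subset_closure (by simp))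
      rcases hH g trivial with h | h
      · exact hle h
      · have := mul_mem (inv_mem (Subgroup.subset_closure (by simp : b ∈ ({a, b} : Set S)))) (hle h)
        rwa [inv_mul_cancel_left] at this
    have hzc : z ∈ Subgroup.center S := by
      rw [Subgroup.mem_center_iff]
      intro g
      have hle : Subgroup.closure ({a, b} : Set S) ≤ Subgroup.centralizer ({z} : Set S) := by
        rw [Subgroup.closure_le]
        rintro x (rfl | rfl)
        · exact Subgroup.mem_centralizer_singleton_iff.mpr (by rw [hz]; exact ((Commute.refl _).pow_right _).eq)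
        · exact Subgroup.mem_centralizer_singleton_iff.mpr (mul_inv_eq_iff_eq_mul.mp hzb)
      exact Subgroup.mem_centralizer_singleton_iff.mp (hle (htop ▸ Subgroup.mem_top g))
    set N := Subgroup.zpowers z
    haveI : N.Normal := ⟨fun x hx g => by
      obtain ⟨m, rfl⟩ := Subgroup.mem_zpowers_iff.mp hx
      rw [Subgroup.mem_center_iff.mp (zpow_mem hzc m) g, mul_inv_cancel_right]
      exact hx⟩
    have hle : commutator S ≤ N := by
      rw [commutator_def, ← htop, Subgroup.commutator_le]
      have hgen : (Subgroup.closure ({a, b} : Set S)).map (QuotientGroup.mk' N) =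
          Subgroup.closure ({(a : S ⧸ N), (b : S ⧸ N)} : Set (S ⧸ N)) := by
        rw [MonoidHom.map_closure]; simp [Set.image_insert_eq]
      have hab : (a : S ⧸ N) * b = b * a := by
        rw [← QuotientGroup.mk_mul, ← QuotientGroup.mk_mul, QuotientGroup.eq]
        have h1 : b * a = a * z * b := by
          rw [← mul_inv_eq_iff_eq_mul, hba, pow_add, pow_one]
        rw [h1]
        have h2 : (a * b)⁻¹ * (a * z * b) = z := by
          rw [mul_assoc a z b, mul_inv_rev, mul_assoc, inv_mul_cancel_left,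
            ← Subgroup.mem_center_iff.mp hzc b, inv_mul_cancel_left]
        rw [h2]
        exact Subgroup.mem_zpowers z
      intro x hx y hy
      rw [← QuotientGroup.eq_one_iff, commutatorElement_def]
      have hx' := hgen ▸ Subgroup.mem_map_of_mem (QuotientGroup.mk' N) hx
      have hy' := hgen ▸ Subgroup.mem_map_of_mem (QuotientGroup.mk' N) hy
      have hc : Subgroup.closure ({(a : S ⧸ N), (b : S ⧸ N)} : Set (S ⧸ N)) ≤
          Subgroup.centralizer (Subgroup.closure ({(a : S ⧸ N), (b : S ⧸ N)} : Set (S ⧸ N)) : Set (S ⧸ N)) := by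
        rw [Subgroup.centralizer_closure, Subgroup.closure_le]
        rintro u (rfl | rfl) <;> rw [SetLike.mem_coe, Subgroup.mem_centralizer_iff] <;>
          rintro v (rfl | rfl)
        exacts [rfl, hab.symm, hab, rfl]
      simp only [QuotientGroup.mk'_apply] at hx' hy'
      simp only [QuotientGroup.mk_mul, QuotientGroup.mk_inv]
      rw [Subgroup.mem_centralizer_iff.mp (hc hy') _ hx', mul_inv_cancel_right, mul_inv_cancel]
    have h1 : Nat.card (commutator S) ≤ 2 := by
      refine (Subgroup.card_le_of_le hle).trans ?_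
      rw [Nat.card_zpowers]
      exact Nat.le_of_dvd two_pos hz1
    have h2 := (commutator S).card_mul_index
    rw [hd, hS] at h2
    have : 2 ^ 4 ≤ 2 ^ n := Nat.pow_le_pow_right (by norm_num) hn4
    omega
  · refine Or.inr (Or.inl ⟨n - 4, ?_, a, b, ?_, ?_, ?_⟩)
    · rw [hS]; congr 1; omega
    · rw [ha]; congr 1; omega
    · refine orderOf_eq_prime hb2 fun h => hb ?_
      rw [h]; exact Subgroup.one_mem _
    · rw [hba, show n - 4 + 2 = n - 2 by omega]

end Cfsg.Agent.Lib.TwoClass
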